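import Mathlib
import Groth.Agent.FBase64.TensorField

/-!
`K ⊗_k k^{p^{-∞}}` is Artinian iff some finite level is geometrically reduced modulo nilpotents.
-/

set_option autoImplicit false
universe u

open TensorProduct

namespace Groth.Agent.PerfTensor14

variable {k K P : Type u} [Field k] [Field K] [Algebra k K] [Field P] [Algebra k P]

section Point

variable (p : ℕ) [Fact p.Prime] [CharP k p] [IsPRadical (algebraMap k P) p]

theorem exists_pow_mem_range (x : K ⊗[k] P) :
    ∃ (n : ℕ) (a : K), x ^ p ^ n = a ⊗ₜ[k] (1 : P) := by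
  have : CharP (K ⊗[k] P) p := charP_of_injective_algebraMap (algebraMap k (K ⊗[k] P)).injective p
  have : ExpChar (K ⊗[k] P) p := .prime Fact.out
  induction x with
  | zero => exact ⟨1, 0, by rw [zero_pow (pow_ne_zero _ (Fact.out : p.Prime).ne_zero), zero_tmul]⟩
  | tmul a b =>
    obtain ⟨n, c, hc⟩ := IsPRadical.pow_mem (algebraMap k P) p b
    refine ⟨n, c • a ^ p ^ n, ?_⟩
    rw [Algebra.TensorProduct.tmul_pow, ← hc, Algebra.algebraMap_eq_smul_one, ← smul_tmul]
  | add x y hx hy =>
    obtain ⟨n, a, ha⟩ := hx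
    obtain ⟨m, b, hb⟩ := hy
    refine ⟨n + m, a ^ p ^ m + b ^ p ^ n, ?_⟩
    have h1 : x ^ p ^ (n + m) = (a ^ p ^ m) ⊗ₜ[k] (1 : P) := by
      rw [pow_add, pow_mul, ha, Algebra.TensorProduct.tmul_pow, one_pow]
    have h2 : y ^ p ^ (n + m) = (b ^ p ^ n) ⊗ₜ[k] (1 : P) := by
      rw [Nat.add_comm, pow_add, pow_mul, hb, Algebra.TensorProduct.tmul_pow, one_pow]
    rw [add_pow_expChar_pow, h1, h2, add_tmul]

include p in
theorem eq_nilradical_of_isPrime (q : Ideal (K ⊗[k] P)) [hq : q.IsPrime] : q = nilradical (K ⊗[k] P) := by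
  refine le_antisymm (fun x hx => ?_) (nilradical_le_prime q)
  obtain ⟨n, a, ha⟩ := exists_pow_mem_range p x
  have hp : 0 < p ^ n := pow_pos (Fact.out : p.Prime).pos n
  by_cases h0 : a = 0
  · exact mem_nilradical.2 ⟨p ^ n, by rw [ha, h0, zero_tmul]⟩
  · refine absurd ?_ hq.ne_top
    have hu : IsUnit (x ^ p ^ n) := by
      rw [ha]
      exact (IsUnit.mk0 a h0).map (Algebra.TensorProduct.includeLeft : K →ₐ[k] K ⊗[k] P)
    exact q.eq_top_of_isUnit_mem hx ((isUnit_pow_iff hp.ne').1 hu)

include p in
theorem isArtinianRing_iff : IsArtinianRing (K ⊗[k] P) ↔ (nilradical (K ⊗[k] P)).FG := by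
  refine ⟨fun h => IsNoetherian.noetherian _, fun h => ?_⟩
  rw [isArtinianRing_iff_isNoetherianRing_krullDimLE_zero]
  refine ⟨IsNoetherianRing.of_prime fun q _ => eq_nilradical_of_isPrime p q ▸ h, ?_⟩
  exact Ring.krullDimLE_zero_iff.2 fun q hq => by
    obtain ⟨M, hM, hle⟩ := Ideal.exists_le_maximal q hq.ne_top
    rwa [eq_nilradical_of_isPrime p q, ← eq_nilradical_of_isPrime p M (hq := hM.isPrime)]

end Point

section Level

variable (k' : Type u) [Field k'] [Algebra k k'] [Algebra k' P] [IsScalarTower k k' P]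

/-- The identification `P ⊗_{k'} (k' ⊗_k K) ≅ K ⊗_k P`. -/
noncomputable def levelEquiv : P ⊗[k'] (k' ⊗[k] K) ≃+* K ⊗[k] P :=
  (Algebra.TensorProduct.cancelBaseChange k k' k' P K).toRingEquiv.trans
    (Algebra.TensorProduct.comm k P K).toRingEquiv

/-- `k' ⊗_k K → K ⊗_k P`. -/
noncomputable def levelMap : k' ⊗[k] K →+* K ⊗[k] P :=
  (levelEquiv k').toRingHom.comp
    (Algebra.TensorProduct.includeRight : k' ⊗[k] K →ₐ[k'] P ⊗[k'] (k' ⊗[k] K)).toRingHom

theorem levelMap_tmul (a : k') (x : K) : levelMap (P := P) k' (a ⊗ₜ[k] x) = x ⊗ₜ[k] algebraMap k' P a := by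
  simp [levelMap, levelEquiv, Algebra.smul_def]

theorem levelMap_injective : Function.Injective (levelMap (K := K) (P := P) (k := k) k') :=
  (levelEquiv k').injective.comp
    (Algebra.TensorProduct.includeRight_injective (RingHom.injective _))

variable (p : ℕ) [Fact p.Prime] [CharP k p] [PerfectRing P p] [IsPRadical (algebraMap k P) p]

include p in
theorem isGeometricallyReduced_iff :
    Algebra.IsGeometricallyReduced k' ((k' ⊗[k] K) ⧸ nilradical (k' ⊗[k] K)) ↔
      nilradical (K ⊗[k] P) ≤ (nilradical (k' ⊗[k] K)).map (levelMap k') := by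
  let R' := k' ⊗[k] K
  let N' := nilradical R'
  have : CharP P p := charP_of_injective_algebraMap (algebraMap k P).injective p
  have : ExpChar P p := .prime Fact.out
  have : PerfectField P := PerfectRing.toPerfectField P p
  have : IsPurelyInseparable k P := by
    have : ExpChar k p := .prime Fact.out
    rw [isPurelyInseparable_iff_pow_mem k p]
    intro x
    obtain ⟨n, c, hc⟩ := IsPRadical.pow_mem (algebraMap k P) p x
    exact ⟨n, c, hc⟩
  have : Algebra.IsAlgebraic k P := Algebra.IsIntegral.isAlgebraic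
  have : Algebra.IsAlgebraic k' P := Algebra.IsAlgebraic.tower_top (K := k) k'
  let π : P ⊗[k'] R' →ₐ[k'] P ⊗[k'] (R' ⧸ N') :=
    Algebra.TensorProduct.map (AlgHom.id k' P) (Ideal.Quotient.mkₐ k' N')
  have hπ : Function.Surjective π :=
    LinearMap.lTensor_surjective P (g := (Ideal.Quotient.mkₐ k' N').toLinearMap) Ideal.Quotient.mk_surjective
  have hker : RingHom.ker π = N'.map (Algebra.TensorProduct.includeRight : R' →ₐ[k'] P ⊗[k'] R') := by
    refine (Algebra.TensorProduct.lTensor_ker (A := P) _ Ideal.Quotient.mk_surjective).trans ?_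
    rw [show RingHom.ker (Ideal.Quotient.mkₐ k' N') = N' from Ideal.mk_ker]
  have hmap : N'.map (levelMap k') = (RingHom.ker π).map (levelEquiv k').toRingHom := by
    rw [hker, levelMap, ← Ideal.map_map]
    rfl
  have key : IsReduced (P ⊗[k'] (R' ⧸ N')) ↔ nilradical (K ⊗[k] P) ≤ N'.map (levelMap k') := by
    rw [hmap]
    constructor
    · intro hred x hx
      have h1 : π ((levelEquiv k').symm x) = 0 :=
        IsNilpotent.eq_zero (((mem_nilradical.1 hx).map (levelEquiv k').symm).map π)
      have := Ideal.mem_map_of_mem (levelEquiv (P := P) (K := K) (k := k) k').toRingHom (RingHom.mem_ker.2 h1)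
      simpa using this
    · intro hle
      refine (isReduced_iff _).2 fun z ⟨n, hn⟩ => ?_
      obtain ⟨y, rfl⟩ := hπ z
      have h1 : levelEquiv k' y ^ n ∈ (RingHom.ker π).map (levelEquiv (P := P) (K := K) (k := k) k').toRingHom := by
        rw [← map_pow]
        exact Ideal.mem_map_of_mem _ (RingHom.mem_ker.2 (by rw [map_pow, hn]))
      have hnil : (RingHom.ker π).map (levelEquiv (P := P) (K := K) (k := k) k').toRingHom ≤
          nilradical (K ⊗[k] P) := by
        rw [← hmap, Ideal.map_le_iff_le_comap]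
        intro w hw
        exact mem_nilradical.2 ((mem_nilradical.1 hw).map _)
      have h2 : IsNilpotent (levelEquiv k' y) := IsNilpotent.of_pow (mem_nilradical.1 (hnil h1))
      obtain ⟨w, hw, hwy⟩ := (Ideal.mem_map_iff_of_surjective _ (levelEquiv (P := P) (K := K) (k := k) k').surjective).1
        (hle (mem_nilradical.2 h2))
      rw [← (levelEquiv k').injective hwy]
      exact hw
  rw [← key, Algebra.isGeometricallyReduced_field_iff]
  let E := AlgebraicClosure k'
  let φ : P →ₐ[k'] E := IsAlgClosed.lift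
  let _ : Algebra P E := φ.toRingHom.toAlgebra
  have : IsScalarTower k' P E := IsScalarTower.of_algebraMap_eq fun x => (φ.commutes x).symm
  have : Module.Free k' (R' ⧸ N') := Module.Free.of_divisionRing k' _
  have : Module.Flat k' (R' ⧸ N') := Module.Flat.of_free
  constructor
  · intro h
    exact isReduced_of_injective (Algebra.TensorProduct.map φ (AlgHom.id k' (R' ⧸ N')))
      (Module.Flat.rTensor_preserves_injective_linearMap φ.toLinearMap φ.toRingHom.injective)
  · intro h
    have := FBase64.isReduced_tensor_of_perfectField P (P ⊗[k'] (R' ⧸ N')) E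
    exact isReduced_of_injective (Algebra.TensorProduct.cancelBaseChange k' P P E (R' ⧸ N')).symm.toAlgHom.toRingHom
      (Algebra.TensorProduct.cancelBaseChange k' P P E (R' ⧸ N')).symm.injective

end Level

variable (p : ℕ) [Fact p.Prime] [CharP k p] [PerfectRing P p] [IsPRadical (algebraMap k P) p]

include p in
theorem isArtinianRing_iff_exists :
    IsArtinianRing (K ⊗[k] P) ↔
      ∃ (k' : Type u) (_ : Field k') (_ : Algebra k k'), Module.Finite k k' ∧ IsPurelyInseparable k k' ∧
        Algebra.IsGeometricallyReduced k' ((k' ⊗[k] K) ⧸ nilradical (k' ⊗[k] K)) := by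
  classical
  have : ExpChar k p := .prime Fact.out
  have : IsPurelyInseparable k P := by
    rw [isPurelyInseparable_iff_pow_mem k p]
    intro x
    obtain ⟨n, c, hc⟩ := IsPRadical.pow_mem (algebraMap k P) p x
    exact ⟨n, c, hc⟩
  constructor
  · intro h
    obtain ⟨S, hS⟩ := (isArtinianRing_iff p).1 h
    choose T hT using fun z : K ⊗[k] P => TensorProduct.exists_finset z
    let s : Finset P := S.biUnion fun z => (T z).image Prod.snd
    let k' : IntermediateField k P := IntermediateField.adjoin k (s : Set P)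
    have hfin : Module.Finite k k' :=
      IntermediateField.finiteDimensional_adjoin fun x _ => Algebra.IsIntegral.isIntegral x
    refine ⟨k', inferInstance, inferInstance, hfin, IntermediateField.isPurelyInseparable_tower_bot k P k', ?_⟩
    rw [isGeometricallyReduced_iff (P := P) k' p, ← hS, Submodule.span_le]
    intro z hz
    have hzm : ∀ i ∈ T z, i.2 ∈ k' := fun i hi =>
      IntermediateField.subset_adjoin k _ (Finset.mem_biUnion.2 ⟨z, hz, Finset.mem_image_of_mem _ hi⟩)
    let w : k' ⊗[k] K := ∑ i ∈ (T z).attach, (⟨i.1.2, hzm i.1 i.2⟩ : k') ⊗ₜ[k] i.1.1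
    have hw : levelMap k' w = z := by
      simp only [w, map_sum, levelMap_tmul, IntermediateField.algebraMap_apply]
      rw [Finset.sum_attach (T z) (fun i => i.1 ⊗ₜ[k] i.2)]
      exact (hT z).symm
    rw [← hw]
    refine Ideal.mem_map_of_mem _ (mem_nilradical.2 ?_)
    have hzn : IsNilpotent (levelMap (P := P) k' w) := by
      rw [hw]; exact mem_nilradical.1 (hS ▸ Ideal.subset_span hz)
    exact (IsNilpotent.map_iff (levelMap_injective k')).1 hzn
  · rintro ⟨k', _, _, hfin, hpi, hgr⟩
    have : CharP P p := charP_of_injective_algebraMap (algebraMap k P).injective p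
    have : ExpChar P p := .prime Fact.out
    have : PerfectField P := PerfectRing.toPerfectField P p
    obtain ⟨φ, hφ⟩ := (IsPurelyInseparable.bijective_comp_algebraMap k k' P).2 (algebraMap k P)
    let _ : Algebra k' P := φ.toAlgebra
    have : IsScalarTower k k' P := IsScalarTower.of_algebraMap_eq fun x => (RingHom.congr_fun hφ x).symm
    rw [isGeometricallyReduced_iff (P := P) k' p] at hgr
    rw [isArtinianRing_iff p]
    have hle : (nilradical (k' ⊗[k] K)).map (levelMap (P := P) k') ≤ nilradical (K ⊗[k] P) := by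
      rw [Ideal.map_le_iff_le_comap]
      exact fun w hw => mem_nilradical.2 ((mem_nilradical.1 hw).map _)
    rw [le_antisymm hgr hle]
    refine Ideal.FG.map ?_ _
    have : IsNoetherianRing (K ⊗[k] k') := IsNoetherianRing.of_finite K _
    have : IsNoetherianRing (k' ⊗[k] K) :=
      isNoetherianRing_of_surjective (K ⊗[k] k') _ (Algebra.TensorProduct.comm k K k').toAlgHom.toRingHom
        (Algebra.TensorProduct.comm k K k').surjective
    exact IsNoetherian.noetherian _

end Groth.Agent.PerfTensor14
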